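import Mathlib
import Cfsg.Agent.S0112
import Cfsg.Agent.S0115
import Cfsg.Agent.S4399
import Cfsg.Agent.S0201
import Cfsg.Agent.S0514
import Cfsg.Agent.S0107
import Cfsg.Agent.S3331
import Cfsg.Agent.S3278
import Cfsg.Agent.Lib.Transfer.CyclicQuotient
import Cfsg.Agent.Lib.SCent.Base
import Cfsg.Agent.Lib.SCent.TransferD
import Cfsg.Agent.Lib.SCent.SemiDih

/-!
# From an element with a small centralizer to the dihedral configuration
-/

set_option autoImplicit false

namespace Cfsg.Agent.Lib.SCent

open Subgroup

section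

variable {G : Type*} [Group G] [Finite G] [IsSimpleGroup G]

lemma perfect (hG : ¬ IsCyclic G) : commutator G = ⊤ := by
  have hn : (commutator G).Normal := inferInstance
  rcases hn.eq_bot_or_eq_top with h | h
  · exfalso
    have h1 : center G = ⊤ := (commutator_eq_bot_iff_center_eq_top G).1 h
    letI := Group.commGroupOfCenterEqTop h1
    exact hG IsSimpleGroup.isCyclic
  · exact h

lemma center_eq_bot (hG : ¬ IsCyclic G) : center G = ⊥ := by
  have hn : (center G).Normal := inferInstance
  rcases hn.eq_bot_or_eq_top with h | h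
  · exact h
  · exfalso
    have h1 : commutator G = ⊥ := by
      rw [commutator_eq_bot_iff_center_eq_top]; exact h
    rw [perfect hG] at h1
    exact top_ne_bot h1

lemma not_two_group (hG : ¬ IsCyclic G) : ¬ IsPGroup 2 G := by
  intro h
  haveI : Fact (Nat.Prime 2) := ⟨Nat.prime_two⟩
  have := h.center_nontrivial
  rw [center_eq_bot hG] at this
  exact (not_nontrivial_iff_subsingleton.2 inferInstance) this

lemma pres_top (hG : ¬ IsCyclic G) : Cfsg.pResidual 2 G = ⊤ := by
  have hn : (Cfsg.pResidual 2 G).Normal := by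
    constructor
    intro n hn g
    have h1 : (Cfsg.pResidual 2 G).map (MulAut.conj g).toMonoidHom ≤ Cfsg.pResidual 2 G := by
      rw [Cfsg.pResidual, MonoidHom.map_closure]
      apply Subgroup.closure_mono
      rintro _ ⟨x, hx, rfl⟩
      have : orderOf ((MulAut.conj g).toMonoidHom x) = orderOf x :=
        orderOf_injective _ (MulAut.conj g).injective x
      show Nat.Coprime _ _
      rw [this]
      exact hx
    exact h1 ⟨n, hn, rfl⟩
  rcases hn.eq_bot_or_eq_top with h | h
  · exfalso
    apply not_two_group hG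
    rw [IsPGroup.iff_card]
    have hall : ∀ p : ℕ, p.Prime → p ∣ Nat.card G → p = 2 := by
      intro p hp hd
      by_contra hne
      haveI := Fact.mk hp
      obtain ⟨x, hx⟩ := exists_prime_orderOf_dvd_card' p hd
      have h1 : x ∈ Cfsg.pResidual 2 G := by
        apply Subgroup.subset_closure
        change Nat.Coprime (orderOf x) 2
        rw [hx]
        exact (Nat.coprime_primes hp Nat.prime_two).2 hne
      rw [h, Subgroup.mem_bot] at h1
      rw [h1, orderOf_one] at hx
      exact hp.one_lt.ne hx
    have hpos : Nat.card G ≠ 0 := Nat.card_pos.ne'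
    exact ⟨(Nat.card G).primeFactorsList.length, (Nat.eq_prime_pow_of_unique_prime_dvd hpos
      (fun {p} hp hd => hall p hp hd))⟩
  · exact h

lemma odd_sylow_index (P : Sylow 2 G) : Odd (P : Subgroup G).index := by
  haveI : Fact (Nat.Prime 2) := ⟨Nat.prime_two⟩
  exact Nat.not_even_iff_odd.1 (fun h => P.not_dvd_index (even_iff_two_dvd.1 h))


theorem d4_central (a : DihedralGroup 4) (i : ZMod 4) :
    a * (DihedralGroup.r i * DihedralGroup.r i) = (DihedralGroup.r i * DihedralGroup.r i) * a := by
  revert a i
  decide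

/-- The configuration, given the dihedral Sylow subgroup. -/
theorem cfg_of_dihedral (hG : ¬ IsCyclic G) (w : G) (hw : orderOf w = 4)
    (hcw : ∀ g : G, g * w = w * g → g ∈ zpowers w) (P : Sylow 2 G) (hwP : w ∈ (P : Subgroup G))
    (e : (P : Subgroup G) ≃* DihedralGroup 4) :
    ∃ C : Cfg G, Nonempty ((C.S : Subgroup G) ≃* DihedralGroup 4) ∧
      ∀ x : G, orderOf x = 2 → IsConj C.z x := by
  classical
  let w' : (P : Subgroup G) := ⟨w, hwP⟩
  have hw'o : orderOf w' = 4 := by rw [Subgroup.orderOf_mk, hw]
  obtain ⟨i, hi⟩ : ∃ i : ZMod 4, e w' = DihedralGroup.r i := by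
    rcases h : e w' with i | i
    · exact ⟨i, rfl⟩
    · exfalso
      have h1 : orderOf (e w') = orderOf w' := MulEquiv.orderOf_eq e w'
      rw [h, DihedralGroup.orderOf_sr, hw'o] at h1
      omega
  have hz2 : (w * w) * (w * w) = 1 := by
    have := pow_orderOf_eq_one w
    rw [hw] at this
    simpa [pow_succ, mul_assoc] using this
  have hz1 : w * w ≠ 1 := by
    intro h
    have h2 : orderOf w ∣ 2 := orderOf_dvd_of_pow_eq_one (by rw [pow_two]; exact h)
    rw [hw] at h2
    omega
  have hzo : orderOf (w * w) = 2 := orderOf_eq_prime (p := 2) (by rw [pow_two, hz2]) hz1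
  -- `P` centralizes `z`
  have hPz : ∀ s ∈ (P : Subgroup G), s * (w * w) = (w * w) * s := by
    intro s hs
    have h1 := d4_central (e ⟨s, hs⟩) i
    rw [← hi, ← map_mul, ← map_mul, ← map_mul] at h1
    have h2 := e.injective h1
    exact congrArg Subtype.val h2
  have hcardP : Nat.card (P : Subgroup G) = 8 := by
    rw [Nat.card_congr e.toEquiv, DihedralGroup.nat_card]
  -- the involution
  let t' : (P : Subgroup G) := e.symm (DihedralGroup.sr 0)
  have het : e t' = DihedralGroup.sr 0 := e.apply_symm_apply _
  have ht' : t' * t' = 1 := by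
    apply e.injective
    rw [map_mul, het, map_one]
    rfl
  have ht'' : t' * w' * t' = w'⁻¹ := by
    apply e.injective
    rw [map_mul, map_mul, het, hi, map_inv, hi]
    simp [DihedralGroup.sr_mul_r, DihedralGroup.sr_mul_sr, DihedralGroup.inv_r]
  -- the complement
  obtain ⟨N, hNn, hNodd, m, hm⟩ := Cfsg.Agent.S0514.result P 4 (by norm_num) ⟨e⟩ (w * w) hzo
  have hPle : (P : Subgroup G) ≤ (centralizer ({w * w} : Set G)) := fun s hs =>
    mem_centralizer_singleton_iff.2 (hPz s hs)
  have h1 := Subgroup.card_mul_index N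
  have hP' : Nat.card ((P : Subgroup G).subgroupOf (centralizer ({w * w} : Set G))) = 8 := by
    rw [← hcardP]
    exact Nat.card_congr (Subgroup.subgroupOfEquivOfLe hPle).toEquiv
  have hm8 : 2 ^ m = 8 := by
    have h2 : Nat.card ((P : Subgroup G).subgroupOf (centralizer ({w * w} : Set G))) ∣ Nat.card (centralizer ({w * w} : Set G)) :=
      Subgroup.card_subgroup_dvd_card _
    rw [hP', ← h1, hm] at h2
    have h3 : Nat.Coprime 8 (Nat.card N) := (Nat.coprime_two_left.2 hNodd).pow_left 3
    have h4 : 8 ∣ 2 ^ m := h3.dvd_of_dvd_mul_left h2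
    have h5 : 2 ^ m ∣ Nat.card G := by
      have h6 : Nat.card (centralizer ({w * w} : Set G)) ∣ Nat.card G := Subgroup.card_subgroup_dvd_card _
      rw [← h1, hm] at h6
      exact (Dvd.intro_left _ rfl).trans h6
    have h7 := Subgroup.card_mul_index (P : Subgroup G)
    rw [hcardP] at h7
    rw [← h7] at h5
    have h8 : Nat.Coprime (2 ^ m) (P : Subgroup G).index :=
      (Nat.coprime_two_left.2 (odd_sylow_index P)).pow_left m
    have h9 := h8.dvd_of_dvd_mul_right h5
    exact Nat.dvd_antisymm h9 h4
  have hcompl : IsComplement' N ((P : Subgroup G).subgroupOf (centralizer ({w * w} : Set G))) := by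
    apply Subgroup.isComplement'_of_coprime
    · rw [hP', ← hm8, ← hm]
      exact h1
    · rw [hP']
      exact (Nat.coprime_two_right.2 hNodd).pow_right 3
  let A : Subgroup G := N.map (centralizer ({w * w} : Set G)).subtype
  have hA : ∀ a ∈ A, ∃ h : a ∈ (centralizer ({w * w} : Set G)), (⟨a, h⟩ : (centralizer ({w * w} : Set G))) ∈ N := by
    rintro _ ⟨n, hn, rfl⟩
    exact ⟨n.2, hn⟩
  have hcardA : Nat.card A = Nat.card N :=
    (Nat.card_congr (N.equivMapOfInjective _ (centralizer ({w * w} : Set G)).subtype_injective).toEquiv).symm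
  let C : Cfg G :=
    { w := w
      t := (t' : G)
      A := A
      S := P
      hw := hw
      ht := congrArg Subtype.val ht'
      hinv := congrArg Subtype.val ht''
      hcw := hcw
      hwS := hwP
      htS := t'.2
      hcardS := hcardP
      hAz := by
        intro a ha
        obtain ⟨h, -⟩ := hA a ha
        exact mem_centralizer_singleton_iff.1 h
      hAn := by
        intro g hg a ha
        obtain ⟨h, hn⟩ := hA a ha
        have hg' : g ∈ (centralizer ({w * w} : Set G)) := mem_centralizer_singleton_iff.2 hg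
        have := hNn.conj_mem _ hn ⟨g, hg'⟩
        exact ⟨_, this, rfl⟩
      hAodd := by rw [hcardA]; exact hNodd
      hAS := by
        intro g hg
        have hg' : g ∈ (centralizer ({w * w} : Set G)) := mem_centralizer_singleton_iff.2 hg
        obtain ⟨⟨a, s⟩, has⟩ := hcompl.2 ⟨g, hg'⟩
        refine ⟨a.1.1, ⟨a.1, a.2, rfl⟩, s.1.1, s.2, ?_⟩
        exact (congrArg Subtype.val has).symm }
  refine ⟨C, ⟨e⟩, fun x hx => ?_⟩
  obtain ⟨g, hg⟩ := Cfsg.Agent.S0107.result P 2 le_rfl ⟨e⟩ (pres_top hG) (w * w) x hzo hx
  exact isConj_iff.2 ⟨g, hg⟩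


/-- A self-centralizing element of order four sits in a dihedral Sylow subgroup of order eight. -/
theorem exists_cfg (hG : ¬ IsCyclic G) (w : G) (hw : orderOf w = 4)
    (hcw : ∀ g : G, g * w = w * g → g ∈ zpowers w) :
    ∃ C : Cfg G, Nonempty ((C.S : Subgroup G) ≃* DihedralGroup 4) ∧
      ∀ x : G, orderOf x = 2 → IsConj C.z x := by
  classical
  haveI : Fact (Nat.Prime 2) := ⟨Nat.prime_two⟩
  have hperf := perfect hG
  have hw4 : w ^ 4 = 1 := by
    have := pow_orderOf_eq_one w
    rwa [hw] at this
  have hw2 : w ^ 2 ≠ 1 := by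
    intro h
    have h2 : orderOf w ∣ 2 := orderOf_dvd_of_pow_eq_one h
    rw [hw] at h2
    omega
  have hzp : IsPGroup 2 (zpowers w) := by
    apply IsPGroup.of_card (n := 2)
    rw [Nat.card_zpowers, hw]; norm_num
  obtain ⟨P, hP⟩ := hzp.exists_le_sylow
  have hwP : w ∈ (P : Subgroup G) := hP (mem_zpowers w)
  obtain ⟨n, hn⟩ := IsPGroup.iff_card.1 P.isPGroup'
  let w' : (P : Subgroup G) := ⟨w, hwP⟩
  have hw'o : orderOf w' = 4 := by rw [Subgroup.orderOf_mk, hw]
  let A : Subgroup (P : Subgroup G) := zpowers w'
  have hAcard : Nat.card A = 2 ^ 2 := by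
    rw [Nat.card_zpowers, hw'o]; norm_num
  have hAC : centralizer (A : Set (P : Subgroup G)) = A := by
    ext y
    constructor
    · intro hy
      have h1 : y * w' = w' * y := ((mem_centralizer_iff.1 hy) w' (mem_zpowers _)).symm
      obtain ⟨k, hk⟩ := hcw y.1 (congrArg Subtype.val h1)
      refine ⟨k, ?_⟩
      apply Subtype.ext
      simpa using hk
    · rintro ⟨k, rfl⟩
      rw [mem_centralizer_iff]
      rintro _ ⟨l, rfl⟩
      change w' ^ l * w' ^ k = w' ^ k * w' ^ l
      rw [← zpow_add, ← zpow_add, add_comm]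
  have h2n : 2 ≤ n := by
    have h1 : Nat.card A ∣ Nat.card (P : Subgroup G) := Subgroup.card_subgroup_dvd_card A
    rw [hAcard, hn] at h1
    exact (Nat.pow_dvd_pow_iff_le_right (by norm_num)).1 h1
  have hcl := Cfsg.Agent.S0112.result (p := 2) n hn A hAcard hAC
  by_cases h3 : 3 ≤ n
  · have hK : IsKleinFour ((P : Subgroup G) ⧸ commutator (P : Subgroup G)) :=
      (Cfsg.Agent.S0115.result n h3 hn).1 hcl
    have hab : Nat.card (Abelianization (P : Subgroup G)) = 4 := hK.card_four
    have hexp : ∀ x : Abelianization (P : Subgroup G), x ^ 2 = 1 := by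
      intro x
      have := Monoid.pow_exponent_eq_one (G := (P : Subgroup G) ⧸ commutator (P : Subgroup G)) x
      rwa [hK.exponent_two] at this
    rcases Cfsg.Agent.S4399.result P.isPGroup' hab hexp with h4 | ⟨k, ⟨e⟩⟩ | ⟨k, hcard, a, b, ha, hb, hab'⟩ |
      ⟨k, ⟨e⟩⟩
    · exfalso
      rw [hn] at h4
      have : 2 ^ 3 ≤ 2 ^ n := Nat.pow_le_pow_right (by norm_num) h3
      omega
    · -- dihedral
      obtain ⟨i, hi⟩ : ∃ i : ZMod (2 ^ (k + 2)), e w' = DihedralGroup.r i := by
        rcases h : e w' with i | i
        · exact ⟨i, rfl⟩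
        · exfalso
          have h1 : orderOf (e w') = orderOf w' := MulEquiv.orderOf_eq e w'
          rw [h, DihedralGroup.orderOf_sr, hw'o] at h1
          omega
      let y : (P : Subgroup G) := e.symm (DihedralGroup.r 1)
      have hey : e y = DihedralGroup.r 1 := e.apply_symm_apply _
      have hcomm : y * w' = w' * y := by
        apply e.injective
        rw [map_mul, map_mul, hey, hi, DihedralGroup.r_mul_r, DihedralGroup.r_mul_r]
        exact congrArg _ (add_comm _ _)
      have hym := hcw y.1 (congrArg Subtype.val hcomm)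
      have h5 : orderOf (y : G) ∣ orderOf w := orderOf_dvd_of_mem_zpowers hym
      rw [Subgroup.orderOf_coe, ← MulEquiv.orderOf_eq e y, hey] at h5
      haveI : NeZero (2 ^ (k + 2)) := ⟨by positivity⟩
      rw [DihedralGroup.orderOf_r_one, hw, show 4 = 2 ^ 2 by norm_num] at h5
      have h6 : k + 2 ≤ 2 := (Nat.pow_dvd_pow_iff_le_right (by norm_num)).1 h5
      obtain rfl : k = 0 := by omega
      exact cfg_of_dihedral hG w hw hcw P hwP e
    · -- semidihedral
      exfalso
      obtain ⟨D, hidx, hinvD, hcomm⟩ := sd_sub k hcard a b ha hb hab'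
      have hDD : (D.map (P : Subgroup G).subtype).subgroupOf (P : Subgroup G) = D := by
        ext x
        rw [Subgroup.mem_subgroupOf]
        constructor
        · rintro ⟨y, hy, hxy⟩
          have : y = x := Subtype.ext hxy
          rwa [← this]
        · intro hx
          exact ⟨x, hx, rfl⟩
      obtain ⟨g, hg⟩ := exists_conj_mem_of_index_two (P : Subgroup G) (D.map (P : Subgroup G).subtype)
        (odd_sylow_index P) (by rw [hDD]; exact hidx) hperf w hw4 (by
          intro y hy hy2
          exact ⟨⟨y, hy⟩, hinvD _ (Subtype.ext (by simpa using hy2)), rfl⟩)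
      obtain ⟨y, hyD, hy⟩ := hg
      have hy' : (y : G) = g⁻¹ * w * g := hy
      have hne : y ^ 2 ≠ 1 := by
        intro h
        apply hw2
        have h1 : ((y : G)) ^ 2 = 1 := by
          have := congrArg Subtype.val h
          simpa using this
        rw [hy'] at h1
        have h2 : (g⁻¹ * w * g) ^ 2 = g⁻¹ * w ^ 2 * g := by
          simp [pow_two, mul_assoc]
        rw [h2] at h1
        have h3 : w ^ 2 = g * (g⁻¹ * w ^ 2 * g) * g⁻¹ := by group
        rw [h3, h1]; group
      have h1 := congrArg Subtype.val (hcomm y hyD hne)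
      change (y : G) * a = a * y at h1
      rw [hy'] at h1
      have h2 : (g * (a : G) * g⁻¹) * w = w * (g * (a : G) * g⁻¹) := by
        calc (g * (a : G) * g⁻¹) * w = g * ((a : G) * (g⁻¹ * w * g)) * g⁻¹ := by group
          _ = g * ((g⁻¹ * w * g) * (a : G)) * g⁻¹ := by rw [h1]
          _ = _ := by group
      have h3 := hcw _ h2
      have h4 : orderOf (g * (a : G) * g⁻¹) ∣ orderOf w := orderOf_dvd_of_mem_zpowers h3
      have h5 : orderOf (g * (a : G) * g⁻¹) = orderOf (a : G) := by
        have := orderOf_injective (MulAut.conj g).toMonoidHom (MulAut.conj g).injective (a : G)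
        simpa [MulAut.conj_apply] using this
      rw [h5, Subgroup.orderOf_coe, ha, hw, show 4 = 2 ^ 2 by norm_num] at h4
      have h6 : k + 3 ≤ 2 := (Nat.pow_dvd_pow_iff_le_right (by norm_num)).1 h4
      omega
    · -- quaternion
      exfalso
      have hO : ∀ N : Subgroup G, N.Normal → Odd (Nat.card N) → N = ⊥ := by
        intro N hN hodd
        rcases hN.eq_bot_or_eq_top with h | h
        · exact h
        · exfalso
          rw [h, Subgroup.card_top] at hodd
          have h1 : orderOf w ∣ Nat.card G := orderOf_dvd_natCard w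
          rw [hw] at h1
          have h2 := hodd.of_dvd_nat h1
          exact absurd h2 (by decide)
      have h5 := Cfsg.Agent.S0201.result P k e hO
      rw [center_eq_bot hG, Subgroup.card_bot] at h5
      omega
  · exfalso
    have hn2 : n = 2 := by omega
    subst hn2
    let z : G := w * w
    have hz2 : z * z = 1 := by
      change w * w * (w * w) = 1
      simpa [pow_succ, mul_assoc] using hw4
    have hzne : z ≠ 1 := by
      intro h
      apply hw2
      rw [pow_two]; exact h
    have hzo : orderOf z = 2 := orderOf_eq_prime (p := 2) (by rw [pow_two, hz2]) hzne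
    have hle : zpowers z ≤ (P : Subgroup G) := by
      rw [zpowers_le]; exact mul_mem hwP hwP
    have hPw : (P : Subgroup G) = zpowers w := by
      symm
      apply Subgroup.eq_of_le_of_card_ge hP
      rw [hn, Nat.card_zpowers, hw]; norm_num
    have hidx : ((zpowers z).subgroupOf (P : Subgroup G)).index = 2 := by
      have h1 := Subgroup.card_mul_index ((zpowers z).subgroupOf (P : Subgroup G))
      have h2 : Nat.card ((zpowers z).subgroupOf (P : Subgroup G)) = 2 := by
        exact (Nat.card_congr (Subgroup.subgroupOfEquivOfLe hle).toEquiv).trans (by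
          rw [Nat.card_zpowers, hzo])
      rw [h2, hn] at h1
      omega
    obtain ⟨g, hg⟩ := exists_conj_mem_of_index_two (P : Subgroup G) (zpowers z)
        (odd_sylow_index P) hidx hperf w hw4 (by
      intro y hy hy2
      rw [hPw] at hy
      obtain ⟨k, rfl⟩ := hy
      change w ^ k ∈ zpowers z
      change (w ^ k) ^ 2 = 1 at hy2
      have h1 : 4 ∣ k * 2 := by
        rw [← zpow_natCast, ← zpow_mul, ← orderOf_dvd_iff_zpow_eq_one, hw] at hy2
        exact_mod_cast hy2
      obtain ⟨c, hc⟩ : ∃ c, k = 2 * c := by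
        obtain ⟨c, hc⟩ := h1
        exact ⟨c, by push_cast at hc; omega⟩
      refine ⟨c, ?_⟩
      change (w * w) ^ c = w ^ k
      rw [hc, zpow_mul, zpow_two])
    have hgg : (g⁻¹ * w * g) ^ 2 = 1 := by
      obtain ⟨k, hk⟩ := hg
      rw [← hk, ← zpow_natCast, ← zpow_mul]
      rw [mul_comm, zpow_mul]
      have : z ^ ((2 : ℕ) : ℤ) = 1 := by
        rw [zpow_natCast, pow_two, hz2]
      rw [this, one_zpow]
    have h2 : (g⁻¹ * w * g) ^ 2 = g⁻¹ * w ^ 2 * g := by
      simp [pow_two, mul_assoc]
    rw [h2] at hgg
    apply hw2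
    have h3 : w ^ 2 = g * (g⁻¹ * w ^ 2 * g) * g⁻¹ := by group
    rw [h3, hgg]; group


lemma card_ne_of_simple (hG : ¬ IsCyclic G) : 4 < Nat.card G := by
  by_contra hle
  push Not at hle
  have hpos : 0 < Nat.card G := Nat.card_pos
  have hnon : 1 < Nat.card G := Finite.one_lt_card_iff_nontrivial.2 IsSimpleGroup.toNontrivial
  interval_cases h : Nat.card G
  · exact not_two_group hG (IsPGroup.of_card (n := 1) (by rw [h]; norm_num))
  · exact hG (isCyclic_of_prime_card (p := 3) (hp := ⟨by norm_num⟩) h)
  · exact not_two_group hG (IsPGroup.of_card (n := 2) (by rw [h]; norm_num))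

/-- The reduction to the main case. -/
theorem reduce_top (hG : ¬ IsCyclic G) (w : G)
    (hw : Nat.card (centralizer ({w} : Set G)) ≤ 4) :
    Nonempty (G ≃* ↥(alternatingGroup (Fin 5))) ∨
      Nonempty (G ≃* Matrix.ProjectiveSpecialLinearGroup (Fin 2) (ZMod 7)) ∨
      ∃ y : G, orderOf y = 4 ∧ ∀ g : G, g * y = y * g → g ∈ zpowers y := by
  classical
  haveI : Fact (Nat.Prime 2) := ⟨Nat.prime_two⟩
  set Cw := centralizer ({w} : Set G) with hCw
  have hzle : zpowers w ≤ Cw := by
    rw [zpowers_le]
    exact mem_centralizer_singleton_iff.2 rfl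
  have hdvd : orderOf w ∣ Nat.card Cw := by
    rw [← Nat.card_zpowers]
    exact Subgroup.card_dvd_of_le hzle
  have hcpos : 0 < Nat.card Cw := Nat.card_pos
  have hw1 : w ≠ 1 := by
    rintro rfl
    have : Cw = ⊤ := by
      rw [hCw]
      ext x
      simp [mem_centralizer_singleton_iff]
    rw [this, Subgroup.card_top] at hw
    have := card_ne_of_simple hG (G := G)
    omega
  have ho1 : orderOf w ≠ 1 := by
    rw [Ne, orderOf_eq_one_iff]; exact hw1
  have hmemC : ∀ g : G, g * w = w * g → g ∈ Cw := fun g hg => mem_centralizer_singleton_iff.2 hg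
  have hzeq : Nat.card Cw ≤ orderOf w → Cw = zpowers w := by
    intro h
    symm
    apply Subgroup.eq_of_le_of_card_ge hzle
    rw [Nat.card_zpowers]; exact h
  have hcases : Nat.card Cw = 2 ∨ Nat.card Cw = 3 ∨ Nat.card Cw = 4 := by
    have h1 : orderOf w ≤ Nat.card Cw := Nat.le_of_dvd hcpos hdvd
    have h2 : 0 < orderOf w := orderOf_pos w
    have : Nat.card Cw ≠ 1 := by
      intro h
      rw [h] at hdvd
      exact ho1 (Nat.dvd_one.1 hdvd)
    omega
  rcases hcases with h2 | h3 | h4
  · -- order two
    exfalso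
    have ho : orderOf w = 2 := by
      rw [h2] at hdvd
      rcases (Nat.dvd_prime Nat.prime_two).1 hdvd with h | h
      · exact absurd h ho1
      · exact h
    have hCeq := hzeq (by omega)
    have hzp : IsPGroup 2 (zpowers w) := by
      apply IsPGroup.of_card (n := 1)
      rw [Nat.card_zpowers, ho]; norm_num
    obtain ⟨P, hP⟩ := hzp.exists_le_sylow
    have hwP : w ∈ (P : Subgroup G) := hP (mem_zpowers w)
    have hwne' : (⟨w, hwP⟩ : (P : Subgroup G)) ≠ 1 := by
      intro h
      exact hw1 (congrArg Subtype.val h)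
    haveI : Nontrivial (P : Subgroup G) := ⟨⟨_, _, hwne'⟩⟩
    have hPle : (P : Subgroup G) ≤ zpowers w := by
      haveI hnt : Nontrivial (center (P : Subgroup G)) := P.isPGroup'.center_nontrivial
      obtain ⟨⟨c, hc⟩, hc1⟩ := exists_ne (1 : center (P : Subgroup G))
      have hc' : (c : G) ≠ 1 := by
        intro h
        exact hc1 (Subtype.ext (Subtype.ext h))
      have h5 : (c : G) ∈ Cw := by
        apply hmemC
        have := (mem_center_iff.1 hc) ⟨w, hwP⟩
        exact (congrArg Subtype.val this).symm
      rw [hCeq] at h5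
      have hcw : (c : G) = w := by
        obtain ⟨k, hk⟩ := h5
        change w ^ k = c at hk
        have h6 : w ^ k = w ^ (k % 2 : ℤ) := by
          have := zpow_mod_orderOf w k
          rw [ho] at this
          exact this.symm
        have h7 : k % 2 = 0 ∨ k % 2 = 1 := by omega
        rcases h7 with h7 | h7
        · rw [h6, h7, zpow_zero] at hk
          exact absurd hk.symm hc'
        · rw [h6, h7, zpow_one] at hk
          exact hk.symm
      intro s hs
      rw [← hCeq]
      apply hmemC
      have := (mem_center_iff.1 hc) ⟨s, hs⟩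
      have h6 : s * c = c * s := congrArg Subtype.val this
      rwa [hcw] at h6
    have hPeq : (P : Subgroup G) = zpowers w := le_antisymm hPle hP
    have hcardP : Nat.card (P : Subgroup G) = 2 := by
      rw [hPeq, Nat.card_zpowers, ho]
    haveI hcy : IsCyclic (P : Subgroup G) := isCyclic_of_prime_card (p := 2) hcardP
    haveI hnb : ((⊥ : Subgroup G).subgroupOf (P : Subgroup G)).Normal := by
      rw [Subgroup.bot_subgroupOf]; infer_instance
    have hcq : IsCyclic ((P : Subgroup G) ⧸ (⊥ : Subgroup G).subgroupOf (P : Subgroup G)) :=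
      isCyclic_of_surjective (QuotientGroup.mk' _) (QuotientGroup.mk'_surjective _)
    have hodd := Cfsg.Agent.Lib.Transfer.CyclicQuotient.odd_card_of_transfer (P : Subgroup G) ⊥
      (odd_sylow_index P) bot_le hcq (perfect hG) w (by rw [← ho]; exact pow_orderOf_eq_one w)
    have hemp : IsEmpty {q : G ⧸ (P : Subgroup G) // q.out⁻¹ * w * q.out ∈ (⊥ : Subgroup G)} := by
      constructor
      rintro ⟨q, hq⟩
      rw [Subgroup.mem_bot] at hq
      apply hw1
      have h6 : w = q.out * (q.out⁻¹ * w * q.out) * q.out⁻¹ := by group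
      rw [h6, hq]; group
    rw [Nat.card_of_isEmpty] at hodd
    exact absurd hodd (by decide)
  · -- order three
    have ho : orderOf w = 3 := by
      rw [h3] at hdvd
      rcases (Nat.dvd_prime Nat.prime_three).1 hdvd with h | h
      · exact absurd h ho1
      · exact h
    have hCeq := hzeq (by omega)
    have hX : Nat.card (zpowers w) = 3 := by rw [Nat.card_zpowers, ho]
    have hC : centralizer (zpowers w : Set G) = zpowers w := by
      ext y
      constructor
      · intro hy
        rw [← hCeq]
        apply hmemC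
        exact ((mem_centralizer_iff.1 hy) w (mem_zpowers _)).symm
      · rintro ⟨k, rfl⟩
        rw [mem_centralizer_iff]
        rintro _ ⟨l, rfl⟩
        change w ^ l * w ^ k = w ^ k * w ^ l
        rw [← zpow_add, ← zpow_add, add_comm]
    rcases Cfsg.Agent.S3331.result (zpowers w) hX hC with ⟨N, hN, -, -, h⟩ | ⟨N, hN, -, -, ⟨e⟩⟩ | he
    · exfalso
      rcases h with h | he
      · rcases hN.eq_bot_or_eq_top with rfl | rfl
        · have h5 : Nat.card (G ⧸ (⊥ : Subgroup G)) = Nat.card G :=
            Nat.card_congr (QuotientGroup.quotientBot).toEquiv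
          have h6 := card_ne_of_simple hG (G := G)
          omega
        · have h5 : Nat.card (G ⧸ (⊤ : Subgroup G)) = 1 := Subgroup.index_top
          omega
      · obtain ⟨e⟩ := he
        let φ : G →* ℤˣ := Equiv.Perm.sign.comp (e.toMonoidHom.comp (QuotientGroup.mk' N))
        obtain ⟨g, hg⟩ : ∃ g : G, e (g : G ⧸ N) = Equiv.swap 0 1 := by
          obtain ⟨q, hq⟩ := e.surjective (Equiv.swap 0 1)
          obtain ⟨g, rfl⟩ := QuotientGroup.mk_surjective q
          exact ⟨g, hq⟩
        have h5 : φ g = 1 := by
          have hmem : g ∈ commutator G := by rw [perfect hG]; trivial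
          exact Abelianization.commutator_subset_ker φ hmem
        have h6 : φ g = -1 := by
          change Equiv.Perm.sign (e (g : G ⧸ N)) = -1
          rw [hg]
          exact Equiv.Perm.sign_swap (by decide)
        rw [h5] at h6
        exact absurd h6 (by decide)
    · left
      rcases hN.eq_bot_or_eq_top with rfl | rfl
      · exact ⟨QuotientGroup.quotientBot.symm.trans e⟩
      · exfalso
        have h5 := Nat.card_congr e.toEquiv
        have h6 : Nat.card (G ⧸ (⊤ : Subgroup G)) = 1 := Subgroup.index_top
        have h7 := two_mul_nat_card_alternatingGroup (α := Fin 5)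
        rw [Nat.card_eq_fintype_card (α := Equiv.Perm (Fin 5)), Fintype.card_perm, Fintype.card_fin] at h7
        rw [h6] at h5
        rw [← h5] at h7
        revert h7
        decide
    · right; left; exact he
  · -- order four
    by_cases hex : ∃ y ∈ Cw, orderOf y = 4
    · obtain ⟨y, hy, hyo⟩ := hex
      right; right
      have hCy : zpowers y = Cw := by
        apply Subgroup.eq_of_le_of_card_ge (zpowers_le.2 hy)
        rw [Nat.card_zpowers, hyo, h4]
      have hwy : w ∈ zpowers y := by
        rw [hCy]
        exact hzle (mem_zpowers w)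
      refine ⟨y, hyo, fun g hg => ?_⟩
      rw [hCy]
      apply hmemC
      obtain ⟨k, hk⟩ := hwy
      change y ^ k = w at hk
      rw [← hk]
      exact (Commute.zpow_right hg k).eq
    · left
      push Not at hex
      have hord : ∀ g : G, g ∈ Cw → g ≠ 1 → orderOf g = 2 := by
        intro g hg hg1
        have h5 : orderOf (⟨g, hg⟩ : Cw) ∣ Nat.card Cw := orderOf_dvd_natCard _
        rw [Subgroup.orderOf_mk, h4] at h5
        have h6 := hex g hg
        have h7 : orderOf g ≠ 1 := by
          rw [Ne, orderOf_eq_one_iff]; exact hg1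
        have h8 : orderOf g ≤ 4 := Nat.le_of_dvd (by norm_num) h5
        have h9 : orderOf g ≠ 3 := by
          intro h
          rw [h] at h5
          omega
        have h10 : 0 < orderOf g := orderOf_pos g
        omega
      have ho : orderOf w = 2 := hord w (hzle (mem_zpowers w)) hw1
      haveI : Nontrivial Cw := Finite.one_lt_card_iff_nontrivial.1 (by omega)
      have hK : IsKleinFour Cw := ⟨h4, (Monoid.exponent_eq_prime_iff Nat.prime_two).2 (by
        intro g hg
        rw [← Subgroup.orderOf_coe]
        exact hord g g.2 (fun h => hg (Subtype.ext h)))⟩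
      exact Cfsg.Agent.S3278.result w ho Cw le_rfl hK (by rw [Subgroup.relIndex_self]; decide)
        (by rw [Subgroup.subgroupOf_self]; infer_instance)

end

end Cfsg.Agent.Lib.SCent
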