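import Mathlib
import Cfsg.Agent.Lib.SCent.Sym
import Cfsg.Agent.Lib.SCent.A7e
import Cfsg.Agent.Lib.SCent.Jordan
import Cfsg.Agent.Lib.SCent.Chars
import Cfsg.Agent.Lib.SCent.Reduce
import Cfsg.Agent.Lib.SCent.Arith

/-!
# Assembly: the local package and the small cases
-/

set_option autoImplicit false

namespace Cfsg.Agent.Lib.SCent

open Subgroup

theorem factorization_7560 : (7560 : ℕ).factorization 5 = 1 := by
  have h : (7560 : ℕ) = 5 ^ 1 * 1512 := by norm_num
  rw [h, Nat.factorization_mul (by norm_num) (by norm_num), Finsupp.add_apply,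
    Nat.Prime.factorization_pow (by norm_num), Finsupp.single_eq_same,
    Nat.factorization_eq_zero_of_not_dvd (by norm_num), add_zero]

/-- The normalizer of a cyclic subgroup modulo its centralizer embeds in the automorphism group. -/
theorem card_norm_dvd {G : Type*} [Group G] [Finite G] (P : Subgroup G) [IsCyclic P] :
    Nat.card (normalizer (P : Set G)) ∣ Nat.card (centralizer (P : Set G)) * Nat.totient (Nat.card P) := by
  have key := Subgroup.card_dvd_of_injective _
    (QuotientGroup.kerLift_injective P.normalizerMonoidHom)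
  rw [normalizerMonoidHom_ker, IsCyclic.card_mulAut] at key
  have hle : centralizer (P : Set G) ≤ normalizer (P : Set G) := by
    intro g hg
    apply mem_norm_of_maps
    intro x hx
    have h1 := (mem_centralizer_iff.1 hg) x hx
    rw [← h1]
    simpa using hx
  have h1 := Subgroup.card_mul_index ((centralizer (P : Set G)).subgroupOf (normalizer (P : Set G)))
  have h2 : Nat.card ((centralizer (P : Set G)).subgroupOf (normalizer (P : Set G))) =
      Nat.card (centralizer (P : Set G)) :=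
    Nat.card_congr (Subgroup.subgroupOfEquivOfLe hle).toEquiv
  rw [h2] at h1
  rw [← h1]
  exact Nat.mul_dvd_mul_left _ key

/-- No group of order 7560 has the configuration with a Sylow 5-subgroup of this kind. -/
theorem no_7560 {G : Type*} [Group G] [Finite G] (P K : Subgroup G) (hP : Nat.card P = 5)
    (hG : Nat.card G = 7560) (hK : Nat.card K = 120) (hKn : K ≤ normalizer (P : Set G))
    (hC : Nat.card (centralizer (P : Set G)) = 60) : False := by
  haveI : Fact (Nat.Prime 5) := ⟨by norm_num⟩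
  haveI : IsCyclic P := isCyclic_of_prime_card hP
  have hc : Nat.card P = 5 ^ (Nat.card G).factorization 5 := by
    rw [hP, hG, factorization_7560]; norm_num
  let S : Sylow 5 G := Sylow.ofCard P hc
  have hS : (S : Subgroup G) = P := Sylow.coe_ofCard P hc
  have h1 := card_norm_dvd P
  rw [hC, hP] at h1
  have h2 : Nat.totient 5 = 4 := by decide
  rw [h2] at h1
  have h3 : 120 ∣ Nat.card (normalizer (P : Set G)) := by
    rw [← hK]; exact Subgroup.card_dvd_of_le hKn
  have h4 : Nat.card (normalizer (P : Set G)) ∣ 7560 := by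
    rw [← hG]; exact Subgroup.card_subgroup_dvd_card _
  have h5 : Nat.card (normalizer (P : Set G)) = 120 := by
    obtain ⟨d, hd⟩ := h3
    rw [hd] at h1 h4
    have h6 : d ∣ 2 := Nat.dvd_of_mul_dvd_mul_left (by norm_num : 0 < 120) (by simpa using h1)
    rcases (Nat.dvd_prime Nat.prime_two).1 h6 with rfl | rfl
    · rw [hd]
    · exact absurd h4 (by decide)
  have h7 : (normalizer (P : Set G)).index = 63 := by
    have h8 := Subgroup.card_mul_index (normalizer (P : Set G))
    rw [h5, hG] at h8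
    omega
  have h9 := card_sylow_modEq_one 5 G
  rw [Sylow.card_eq_index_normalizer S] at h9
  have h11 : (S : Set G) = (P : Set G) := by
    rw [← hS]; rfl
  rw [h11, h7] at h9
  exact absurd h9 (by decide)

namespace Cfg

variable {G : Type*} [Group G] [Finite G] {C : Cfg G}

lemma swap_u : C.swap.u = C.t * C.z := by
  change C.t * C.w * C.w = C.t * (C.w * C.w)
  rw [mul_assoc]

lemma swap_swap_Ap : C.swap.swap.Ap = C.Ap := by
  ext y
  rw [mem_Ap, mem_Ap]
  change y ∈ C.A ∧ C.swap.u * y * C.swap.u = y ↔ _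
  rw [swap_u]
  constructor
  · rintro ⟨h1, h2⟩
    refine ⟨h1, ?_⟩
    have h3 : C.t * C.z * y * (C.t * C.z) = C.t * y * C.t := by
      calc C.t * C.z * y * (C.t * C.z) = C.t * (C.z * y) * C.t * C.z := by group
        _ = C.t * (y * C.z) * C.t * C.z := by rw [C.A_comm_z h1]
        _ = C.t * y * (C.z * C.t) * C.z := by group
        _ = C.t * y * (C.t * C.z) * C.z := by rw [C.zt]
        _ = C.t * y * C.t * (C.z * C.z) := by group
        _ = C.t * y * C.t := by rw [C.z_z, mul_one]
    rw [← h3]; exact h2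
  · rintro ⟨h1, h2⟩
    refine ⟨h1, ?_⟩
    have h3 : C.t * C.z * y * (C.t * C.z) = C.t * y * C.t := by
      calc C.t * C.z * y * (C.t * C.z) = C.t * (C.z * y) * C.t * C.z := by group
        _ = C.t * (y * C.z) * C.t * C.z := by rw [C.A_comm_z h1]
        _ = C.t * y * (C.z * C.t) * C.z := by group
        _ = C.t * y * (C.t * C.z) * C.z := by rw [C.zt]
        _ = C.t * y * C.t * (C.z * C.z) := by group
        _ = C.t * y * C.t := by rw [C.z_z, mul_one]
    rw [h3]; exact h2

section Pkg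

variable (hc : ∀ x : G, orderOf x = 2 → IsConj C.z x)

include hc

/-- The local package. -/
theorem package (ha : 1 < Nat.card C.Ap) :
    ∃ σ : G, (∀ β ∈ C.swap.Ap, σ * β * σ⁻¹ = β) ∧ σ * C.z * σ⁻¹ = C.u ∧ σ * C.u * σ⁻¹ = C.u * C.z ∧
      Nat.card C.Nc = 8 * Nat.card C.Ap * Nat.card C.swap.Ap *
        (Nat.card (P0 C σ) * (2 * Nat.card C.swap.Ap + Nat.card (P0 C σ))) ∧
      1 + 2 * Nat.card C.swap.Ap ^ 2 ≤
        Nat.card (P0 C σ) * (2 * Nat.card C.swap.Ap + Nat.card (P0 C σ)) ∧
      C.I1.ncard = Nat.card (P0 C σ) * (2 * Nat.card C.swap.Ap + Nat.card (P0 C σ)) := by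
  obtain ⟨τ, hτA, hτz, hτt⟩ := C.exists_tau hc
  obtain ⟨σ, hσA, hσz, hσu⟩ := C.swap.exists_tau hc
  have hτH : τ ∈ C.Hc := C.mem_Hc.2 hτA
  obtain ⟨h1, h2⟩ := local_main ha hτH hτz hτt hσA hσz hσu
  refine ⟨σ, hσA, hσz, hσu, h1, h2, ?_⟩
  have h3 := C.card_N_I1 ha hτH hτz hτt
  rw [h1, mul_comm] at h3
  have hpos : 0 < 8 * Nat.card C.Ap * Nat.card C.swap.Ap := by
    have h5 : 0 < Nat.card C.Ap := Nat.card_pos
    have h6 : 0 < Nat.card C.swap.Ap := Nat.card_pos
    positivity
  exact Nat.eq_of_mul_eq_mul_left hpos h3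

end Pkg

lemma card_P0_dvd (σ : G) : Nat.card (P0 C σ) ∣ Nat.card C.Ap :=
  Subgroup.card_dvd_of_le inf_le_left

/-- `H` has index two in `N`. -/
lemma card_Nc (ha : 1 < Nat.card C.Ap) : Nat.card C.Nc = 2 * Nat.card C.Hc := by
  have hidx : (C.Hc.subgroupOf C.Nc).index = 2 := by
    rw [Subgroup.index_eq_two_iff]
    refine ⟨⟨C.u, C.u_mem_Nc⟩, ?_⟩
    rintro ⟨b, hb⟩
    rw [Subgroup.mem_subgroupOf, Subgroup.mem_subgroupOf]
    change Xor (b * C.u ∈ C.Hc) (b ∈ C.Hc)
    by_cases hbH : b ∈ C.Hc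
    · right
      refine ⟨hbH, fun h => ?_⟩
      exact C.u_notMem_Hc ha ((mul_mem_cancel_left hbH).1 h)
    · left
      exact ⟨C.mul_mem_Hc_of_not ha hb hbH C.u_mem_Nc (C.u_notMem_Hc ha), hbH⟩
  have h1 := Subgroup.card_mul_index (C.Hc.subgroupOf C.Nc)
  have h2 : Nat.card (C.Hc.subgroupOf C.Nc) = Nat.card C.Hc :=
    Nat.card_congr (Subgroup.subgroupOfEquivOfLe C.Hc_le_Nc).toEquiv
  rw [h2, hidx] at h1
  omega

/-- `N` normalizes `A₊`. -/
lemma Nc_le_norm : C.Nc ≤ normalizer (C.Ap : Set G) := by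
  intro g hg
  apply mem_norm_of_maps
  intro α hα
  rcases hg with h | h
  · rw [h α hα]; exact hα
  · rw [h α hα]; exact inv_mem hα

end Cfg

end Cfsg.Agent.Lib.SCent
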