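import Mathlib
import Cfsg.Agent.Lib.SCent.Main1

/-!
# Assembly: the cases
-/

set_option autoImplicit false

namespace Cfsg.Agent.Lib.SCent

open Subgroup

namespace Cfg

variable {G : Type*} [Group G] [Finite G] {C : Cfg G}

lemma card_G_eq : Nat.card G = 8 * Nat.card C.Ap * Nat.card C.swap.Ap *
    (centralizer ({C.z} : Set G)).index := by
  rw [← C.card_cent_z', Subgroup.card_mul_index]

/-- The four-group is everything in `H`, if `|I1| = 3`. -/
lemma hV_of_card (hI : C.I1.ncard = 3) (hp : ∀ v : G, ∀ p ∈ C.Ap, p ≠ 1 → v * p = p * v → v ∈ C.Hc)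
    {p : G} (hpA : p ∈ C.Ap) (hp1 : p ≠ 1) (v : G) (hv : v * v = 1) (hv1 : v ≠ 1)
    (hvp : v * p = p * v) : v = C.z ∨ v = C.t ∨ v = C.t * C.z := by
  have hsub : ({C.z, C.t, C.t * C.z} : Set G) ⊆ C.I1 := by
    rintro y (rfl | rfl | rfl)
    · exact ⟨C.z_mem_Hc, C.z_z, C.z_ne_one⟩
    · exact ⟨C.t_mem_Hc, C.ht, C.t_ne_one⟩
    · exact ⟨mul_mem C.t_mem_Hc C.z_mem_Hc, C.tz_sq, C.one_ne_tz.symm⟩
  have hcard : ({C.z, C.t, C.t * C.z} : Set G).ncard = 3 := by
    rw [Set.ncard_insert_of_notMem, Set.ncard_pair C.t_ne_tz]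
    rintro (h | h)
    · exact C.t_ne_z h.symm
    · exact C.z_ne_tz h
  have heq := Set.eq_of_subset_of_ncard_le hsub (by rw [hI, hcard]) (Set.toFinite _)
  have hmem : v ∈ C.I1 := ⟨hp v p hpA hp1 hvp, hv, hv1⟩
  rw [← heq] at hmem
  exact hmem

section Cases

variable [IsSimpleGroup G]

theorem case_b1 (hperf : commutator G = ⊤) (hD : Nonempty ((C.S : Subgroup G) ≃* DihedralGroup 4))
    (hc : ∀ x : G, orderOf x = 2 → IsConj C.z x) (hb : Nat.card C.swap.Ap = 1)
    (ha : 1 < Nat.card C.Ap) : Nonempty (G ≃* alternatingGroup (Fin 7)) := by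
  obtain ⟨x, m, n, p, q, δ, hδ, hm, hn, hnodd, hx, hab, hI, hpq, h⟩ := C.arith_data hD hc
  rw [hb] at hab h
  have h1 := Arith.b_one (a := (Nat.card C.Ap : ℤ)) hδ (by exact_mod_cast ha) hx hm hn hnodd
    (by simpa using hab) hI hpq (by simpa using h)
  have hG := C.card_G_eq
  rw [hb] at hG
  obtain ⟨σ, hσA, hσz, hσu, hN, hbd, hI1⟩ := package hc ha
  rw [hb] at hN hI1
  have hcdvd := card_P0_dvd (C := C) σ
  have hNdvd : Nat.card C.Nc ∣ Nat.card G := Subgroup.card_subgroup_dvd_card _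
  have hHc := C.card_Nc ha
  have hNtop : ∀ k : ℕ, C.Nc.index = k → k ≠ 1 → C.Nc ≠ ⊤ := by
    intro k h2 h3 h4
    rw [h4, Subgroup.index_top] at h2
    omega
  rcases h1 with ⟨ha3, hI3⟩ | ⟨ha5, hI5⟩
  · -- `a = 3`
    have ha' : Nat.card C.Ap = 3 := by exact_mod_cast ha3
    have hI' : (centralizer ({C.z} : Set G)).index = 105 := by exact_mod_cast hI3
    rw [ha', hI'] at hG
    rw [ha'] at hN hcdvd
    have hG' : Nat.card G = 2520 := hG
    rcases (Nat.dvd_prime (by norm_num : Nat.Prime 3)).1 hcdvd with hc1 | hc3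
    · rw [hc1] at hN hI1
      have hN' : Nat.card C.Nc = 72 := hN
      have hH' : Nat.card C.Hc = 36 := by omega
      obtain ⟨p₀, hp₀, hp₀ne⟩ := C.exists_big ha
      have hp₀1 : p₀ ≠ 1 := by
        rintro rfl
        simp at hp₀ne
      have hcardA : Nat.card C.A = 3 := by
        rw [C.card_A, ha', hb]
      have hp₀3 : p₀ ^ 3 = 1 := by
        have h2 : (⟨p₀, hp₀⟩ : C.Ap) ^ Nat.card C.Ap = 1 := pow_card_eq_one'
        rw [ha'] at h2
        exact congrArg Subtype.val h2
      have hz : zpowers p₀ = C.Ap := by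
        apply Subgroup.eq_of_le_of_card_ge (zpowers_le.2 hp₀)
        rw [Nat.card_zpowers, orderOf_eq_prime hp₀3 hp₀1, ha']
      have hmemH : ∀ v : G, ∀ p ∈ C.Ap, p ≠ 1 → v * p = p * v → v ∈ C.Hc := by
        intro v p hp hp1 hvp
        have hp3 : p ^ 3 = 1 := by
          have h2 : (⟨p, hp⟩ : C.Ap) ^ Nat.card C.Ap = 1 := pow_card_eq_one'
          rw [ha'] at h2
          exact congrArg Subtype.val h2
        have hz2 : zpowers p = C.Ap := by
          apply Subgroup.eq_of_le_of_card_ge (zpowers_le.2 hp)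
          rw [Nat.card_zpowers, orderOf_eq_prime hp3 hp1, ha']
        rw [C.mem_Hc]
        intro α hα
        rw [← hz2] at hα
        obtain ⟨k, rfl⟩ := hα
        have h2 : Commute v p := hvp
        have h3 : v * p ^ k = p ^ k * v := (h2.zpow_right k).eq
        change v * p ^ k * v⁻¹ = p ^ k
        rw [h3]; group
      have H : A7Hyp C p₀ :=
        { hc := hc
          hpA := C.Ap_le hp₀
          hp1 := hp₀1
          hcard := hcardA
          htp := (C.mem_Ap.1 hp₀).2
          hV := fun v hv hv1 hvp =>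
            hV_of_card (by rw [hI1]) hmemH hp₀ hp₀1 v hv hv1 hvp }
      exact H.a7_of_hyp hperf hG' hN' hH'
    · rw [hc3] at hN
      have hN' : Nat.card C.Nc = 360 := hN
      have hidx : C.Nc.index = 7 := by
        have h2 := Subgroup.card_mul_index C.Nc
        rw [hN', hG'] at h2
        omega
      apply iso_alt_of_index hperf C.Nc hidx (hNtop 7 hidx (by norm_num))
      rw [hG']; decide
  · -- `a = 5`
    exfalso
    have ha' : Nat.card C.Ap = 5 := by exact_mod_cast ha5
    have hI' : (centralizer ({C.z} : Set G)).index = 189 := by exact_mod_cast hI5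
    rw [ha', hI'] at hG
    rw [ha'] at hN hcdvd
    have hG' : Nat.card G = 7560 := hG
    rcases (Nat.dvd_prime (by norm_num : Nat.Prime 5)).1 hcdvd with hc1 | hc5
    · rw [hc1] at hN
      have hN' : Nat.card C.Nc = 120 := hN
      have hH' : Nat.card C.Hc = 60 := by omega
      exact no_7560 C.Ap C.Nc ha' hG' hN' C.Nc_le_norm hH'
    · rw [hc5] at hN
      have hN' : Nat.card C.Nc = 1400 := hN
      rw [hN', hG'] at hNdvd
      exact absurd hNdvd (by decide)

end Cases

end Cfg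

end Cfsg.Agent.Lib.SCent
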