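import Mathlib
import Cfsg.Agent.Lib.SCent.Main2

/-!
# Assembly: both factors of `A` nontrivial
-/

set_option autoImplicit false

namespace Cfsg.Agent.Lib.SCent

open Subgroup

namespace Cfg

lemma a_three {a : ℕ} (hodd : Odd a) (h3 : 3 ≤ a) (h7 : a ^ 4 ∣ 3632428800) : a = 3 := by
  have h8 : a ^ 4 ≤ 3632428800 := Nat.le_of_dvd (by norm_num) h7
  have h9 : a ≤ 245 := by
    by_contra h10
    have h11 : 246 ≤ a := by omega
    have h12 : 246 ^ 4 ≤ a ^ 4 := Nat.pow_le_pow_left h11 4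
    omega
  interval_cases a <;> first
    | rfl
    | exact absurd hodd (by decide)
    | exact absurd h7 (by decide)

variable {G : Type*} [Group G] [Finite G] {C : Cfg G}

theorem a_eq_of_big (hc : ∀ x : G, orderOf x = 2 → IsConj C.z x) (ha : 1 < Nat.card C.Ap)
    (hb : 1 < Nat.card C.swap.Ap) :
    Nat.card C.Ap = Nat.card C.swap.Ap ∧ ∃ σ : G,
      Nat.card C.Nc = 8 * Nat.card C.Ap * Nat.card C.swap.Ap *
        (Nat.card (P0 C σ) * (2 * Nat.card C.swap.Ap + Nat.card (P0 C σ))) ∧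
      Nat.card (P0 C σ) = Nat.card C.Ap := by
  obtain ⟨σ₁, hσ₁A, hσ₁z, hσ₁u, hN₁, hbd₁, -⟩ := package hc ha
  obtain ⟨σ₂, hσ₂A, hσ₂z, hσ₂u, hN₂, hbd₂, -⟩ := package (C := C.swap) hc hb
  have hss : Nat.card C.swap.swap.Ap = Nat.card C.Ap := by rw [swap_swap_Ap]
  rw [hss] at hbd₂
  have hd₁ := card_P0_dvd (C := C) σ₁
  have hd₂ := card_P0_dvd (C := C.swap) σ₂
  have hpa : 0 < Nat.card C.Ap := Nat.card_pos
  have hpb : 0 < Nat.card C.swap.Ap := Nat.card_pos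
  have hc₁ := Arith.c_eq C.odd_a hd₁ hd₂ hpa hpb hbd₁ hbd₂
  have hc₂ := Arith.c_eq C.odd_b hd₂ hd₁ hpb hpa hbd₂ hbd₁
  have hP₁ : P0 C σ₁ = C.Ap :=
    Subgroup.eq_of_le_of_card_ge inf_le_left (by rw [hc₁])
  have hP₂ : P0 C.swap σ₂ = C.swap.Ap :=
    Subgroup.eq_of_le_of_card_ge inf_le_left (by rw [hc₂])
  have hfact₁ : ∀ α ∈ C.Ap, σ₁ * α * σ₁⁻¹ ∈ C.Hc := by
    intro α hα
    rw [← hP₁] at hα
    exact hα.2
  have hfact₂ : ∀ β ∈ C.swap.Ap, σ₂ * β * σ₂⁻¹ ∈ C.swap.Hc := by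
    intro β hβ
    rw [← hP₂] at hβ
    exact hβ.2
  -- `b ≤ a`
  have hz₂ : σ₂ * C.z * σ₂⁻¹ = C.t * C.z := by
    have := hσ₂z
    rwa [swap_u] at this
  have htz₂ : σ₂ * (C.t * C.z) * σ₂⁻¹ = C.t := by
    have h1 : σ₂ * C.swap.u * σ₂⁻¹ = C.swap.u * C.z := hσ₂u
    rw [swap_u] at h1
    rw [h1, mul_assoc, C.z_z, mul_one]
  have ht₂ : σ₂ * C.t * σ₂⁻¹ = C.z := by
    calc σ₂ * C.t * σ₂⁻¹ = σ₂ * ((C.t * C.z) * C.z) * σ₂⁻¹ := by
          rw [mul_assoc C.t, C.z_z, mul_one]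
      _ = (σ₂ * (C.t * C.z) * σ₂⁻¹) * (σ₂ * C.z * σ₂⁻¹) := by group
      _ = C.t * (C.t * C.z) := by rw [htz₂, hz₂]
      _ = C.z := by rw [← mul_assoc, C.ht, one_mul]
  have hle₁ : Nat.card C.swap.Ap ≤ Nat.card C.Ap := by
    apply C.b_le_a ht₂ htz₂ hσ₁z
    intro β hβ β' hβ'
    have h1 := (C.swap.mem_Hc.1 (hfact₂ β hβ)) β' hβ'
    rw [mul_inv_eq_iff_eq_mul] at h1
    exact h1.symm
  -- `a ≤ b`
  have hle₂ : Nat.card C.swap.swap.Ap ≤ Nat.card C.swap.Ap := by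
    apply C.swap.b_le_a (ρ := σ₁⁻¹) (σ := σ₂)
    · change σ₁⁻¹ * C.u * σ₁⁻¹⁻¹ = C.z
      rw [← hσ₁z]; group
    · change σ₁⁻¹ * (C.u * C.z) * σ₁⁻¹⁻¹ = C.u
      rw [← hσ₁u]; group
    · exact hσ₂z
    · intro β hβ β' hβ'
      rw [swap_swap_Ap] at hβ hβ'
      have h1 := (C.mem_Hc.1 (hfact₁ β' hβ')) β hβ
      have h2 : (σ₁ * β' * σ₁⁻¹) * β = β * (σ₁ * β' * σ₁⁻¹) := by
        rw [mul_inv_eq_iff_eq_mul] at h1
        exact h1
      have h3 := conj_commute (g := σ₁⁻¹) h2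
      rw [inv_inv, inv_conj_conj] at h3
      rw [inv_inv]
      exact h3
  rw [hss] at hle₂
  exact ⟨le_antisymm hle₂ hle₁, σ₁, hN₁, hc₁⟩

variable [IsSimpleGroup G]

/-- Both factors nontrivial is impossible. -/
theorem case_big (hD : Nonempty ((C.S : Subgroup G) ≃* DihedralGroup 4))
    (hc : ∀ x : G, orderOf x = 2 → IsConj C.z x) (ha : 1 < Nat.card C.Ap)
    (hb : 1 < Nat.card C.swap.Ap) : False := by
  obtain ⟨hab, σ, hN, hcσ⟩ := a_eq_of_big hc ha hb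
  rw [hcσ, ← hab] at hN
  obtain ⟨x, m, n, p, q, δ, hδ, hm, hn, hnodd, hx, hab', hI, hpq, h⟩ := C.arith_data hD hc
  rw [← hab] at hab'
  have hG := C.card_G_eq
  rw [← hab] at hG
  set a := Nat.card C.Ap with ha_def
  set I := (centralizer ({C.z} : Set G)).index with hI_def
  set k := C.Nc.index with hk_def
  have hkN := Subgroup.card_mul_index C.Nc
  rw [← hk_def, hN, hG] at hkN
  have hapos : 0 < a := Nat.card_pos
  have hIk : I = 3 * a ^ 2 * k := by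
    have h1 : 8 * a * a * I = 8 * a * a * (3 * a ^ 2 * k) := by
      rw [← hkN]; ring
    exact Nat.eq_of_mul_eq_mul_left (by positivity) h1
  have hIk' : (I : ℤ) = 3 * (a : ℤ) ^ 2 * (k : ℤ) := by exact_mod_cast hIk
  obtain ⟨hm1, han⟩ := Arith.a_eq_b hδ hx hm hn hab' hI hIk'
  subst hm1
  have hapos' : (0 : ℤ) < (a : ℤ) := by exact_mod_cast hapos
  have hk_val : (k : ℤ) = 15 ∧ δ = 1 ∨ (k : ℤ) = 7 ∧ δ = -1 := by
    rcases hδ with rfl | rfl
    · left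
      refine ⟨?_, rfl⟩
      have h2 : (a : ℤ) ^ 2 * (3 * (k : ℤ)) = (a : ℤ) ^ 2 * 45 := by
        rw [hx, ← han] at hI
        rw [hIk'] at hI
        linarith
      have h3 := mul_left_cancel₀ (by positivity) h2
      linarith
    · right
      refine ⟨?_, rfl⟩
      have h2 : (a : ℤ) ^ 2 * (3 * (k : ℤ)) = (a : ℤ) ^ 2 * 21 := by
        rw [hx, ← han] at hI
        rw [hIk'] at hI
        linarith
      have h3 := mul_left_cancel₀ (by positivity) h2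
      linarith
  have hcardG : Nat.card G = 8 * a * a * (3 * a ^ 2 * k) := by
    rw [hG, hIk]
  have hNtop : C.Nc ≠ ⊤ := by
    intro h2
    have h3 : k = 1 := by rw [hk_def, h2, Subgroup.index_top]
    rw [h3] at hk_val
    rcases hk_val with ⟨h4, -⟩ | ⟨h4, -⟩ <;> norm_num at h4
  have hfac := card_dvd_factorial C.Nc hNtop
  rw [← hk_def] at hfac
  have hodd : Odd a := C.odd_a
  have ha3 : 3 ≤ a := by
    obtain ⟨l, hl⟩ := hodd
    omega
  have ha4 : 81 ≤ a ^ 4 := by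
    calc 81 = 3 ^ 4 := by norm_num
      _ ≤ a ^ 4 := Nat.pow_le_pow_left ha3 4
  rcases hk_val with ⟨h4, -⟩ | ⟨h4, -⟩
  · have hk15 : k = 15 := by exact_mod_cast h4
    rw [hk15] at hcardG hfac
    rw [hcardG] at hfac
    have h5 : Nat.factorial 15 = 360 * 3632428800 := by decide
    rw [h5] at hfac
    have h6 : 8 * a * a * (3 * a ^ 2 * 15) = 360 * a ^ 4 := by ring
    rw [h6] at hfac
    have h7 : a ^ 4 ∣ 3632428800 :=
      Nat.dvd_of_mul_dvd_mul_left (by norm_num : 0 < 360) hfac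
    have h10 : a = 3 := a_three hodd ha3 h7
    rw [h10] at hcardG
    exact no_29160 C.Nc hk15 (by rw [hcardG]; norm_num)
  · have hk7 : k = 7 := by exact_mod_cast h4
    rw [hk7] at hcardG hfac
    rw [hcardG] at hfac
    have h5 : Nat.factorial 7 = 168 * 30 := by decide
    rw [h5] at hfac
    have h6 : 8 * a * a * (3 * a ^ 2 * 7) = 168 * a ^ 4 := by ring
    rw [h6] at hfac
    have h7 : a ^ 4 ∣ 30 := Nat.dvd_of_mul_dvd_mul_left (by norm_num : 0 < 168) hfac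
    have h8 : a ^ 4 ≤ 30 := Nat.le_of_dvd (by norm_num) h7
    omega

/-- The trivial case. -/
theorem case_11 (hperf : commutator G = ⊤) (hD : Nonempty ((C.S : Subgroup G) ≃* DihedralGroup 4))
    (ha : Nat.card C.Ap = 1) (hb : Nat.card C.swap.Ap = 1) :
    Nonempty (centralizer ({C.z} : Set G) ≃* DihedralGroup 4) := by
  have h1 : Nat.card (centralizer ({C.z} : Set G)) = 8 := by
    rw [C.card_cent_z', ha, hb]
  have h2 : (C.S : Subgroup G) = centralizer ({C.z} : Set G) := by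
    apply Subgroup.eq_of_le_of_card_ge
    · exact C.S_le_cent
    · rw [h1, C.hcardS]
  obtain ⟨e⟩ := hD
  exact ⟨(MulEquiv.subgroupCongr h2).symm.trans e⟩

end Cfg

end Cfsg.Agent.Lib.SCent
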